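import Groth.Agent.PicCurve.DegDiv
import Mathlib.RingTheory.Artinian.Ring
import Mathlib.FieldTheory.IsAlgClosed.Basic

/-!
The functions on a finite reduced scheme over an algebraically closed field.
-/

set_option autoImplicit false
set_option linter.style.haveILetI false
set_option linter.unusedSectionVars false
set_option backward.isDefEq.respectTransparency false
set_option backward.isDefEq.respectTransparency.types false

universe u

open CategoryTheory CategoryTheory.Limits AlgebraicGeometry TopologicalSpace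

noncomputable section

namespace Groth.Agent.H28.Serre2

theorem finrank_h0_eq_card (k : Type u) [Field k] [IsAlgClosed k] (Z : Scheme.{u})
    [Z.Over (Spec (CommRingCat.of k))] [IsFinite (Z ↘ Spec (CommRingCat.of k))] [IsReduced Z] :
    Module.finrank k (Coh.HH Z (Coh.structureModule Z) 0) = Nat.card Z := by
  letI := GeomField.globalAlgebra k Z
  let p := Z ↘ Spec (CommRingCat.of k)
  haveI : IsAffine Z := isAffine_of_isAffineHom p
  let φ : CommRingCat.of k ⟶ Γ(Z, ⊤) := (Scheme.ΓSpecIso (CommRingCat.of k)).inv ≫ p.appTop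
  have hp : p = Z.isoSpec.hom ≫ Spec.map φ := by
    rw [Spec.map_comp, ← Category.assoc, Scheme.isoSpec_hom_naturality, Category.assoc]
    simp [Scheme.isoSpec_Spec_hom]
  haveI : IsFinite (Spec.map φ) := by
    have := (inferInstance : IsFinite (Z.isoSpec.inv ≫ p))
    rwa [hp, Iso.inv_hom_id_assoc] at this
  haveI : Module.Finite k Γ(Z, ⊤) := (IsFinite.SpecMap_iff φ).1 inferInstance
  haveI : IsArtinianRing Γ(Z, ⊤) := IsArtinianRing.of_finite k _
  rw [GeomField.finrank_HH_zero k Z, Nat.card_congr (Scheme.homeoOfIso Z.isoSpec).toEquiv]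
  show _ = Nat.card (PrimeSpectrum Γ(Z, ⊤))
  haveI : Fintype (MaximalSpectrum Γ(Z, ⊤)) := Fintype.ofFinite _
  let e : Γ(Z, ⊤) ≃ₐ[k] ∀ I : MaximalSpectrum Γ(Z, ⊤), Γ(Z, ⊤) ⧸ I.asIdeal :=
    (IsArtinianRing.equivPi Γ(Z, ⊤)).restrictScalars k
  have hone : ∀ I : MaximalSpectrum Γ(Z, ⊤), Module.finrank k (Γ(Z, ⊤) ⧸ I.asIdeal) = 1 := fun I => by
    haveI := I.isMaximal
    letI : Field (Γ(Z, ⊤) ⧸ I.asIdeal) := Ideal.Quotient.field I.asIdeal
    haveI : Module.Finite k (Γ(Z, ⊤) ⧸ I.asIdeal) := inferInstance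
    haveI : Algebra.IsIntegral k (Γ(Z, ⊤) ⧸ I.asIdeal) := Algebra.IsIntegral.of_finite k _
    have hb : Function.Bijective (algebraMap k (Γ(Z, ⊤) ⧸ I.asIdeal)) :=
      IsAlgClosed.algebraMap_bijective_of_isIntegral (k := k) (K := Γ(Z, ⊤) ⧸ I.asIdeal)
    exact (LinearEquiv.ofBijective (Algebra.linearMap k (Γ(Z, ⊤) ⧸ I.asIdeal)) hb).finrank_eq.symm.trans
      (Module.finrank_self k)
  rw [e.toLinearEquiv.finrank_eq, Module.finrank_pi_fintype, Finset.sum_congr rfl fun I _ => hone I,
    Finset.sum_const, smul_eq_mul, mul_one, Finset.card_univ, ← Nat.card_eq_fintype_card]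
  exact Nat.card_congr IsArtinianRing.primeSpectrumEquivMaximalSpectrum.symm

end Groth.Agent.H28.Serre2
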