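import Groth.Agent.Lib.ConormalWedge
import Groth.Agent.H23.StalkIdeal
import Groth.Agent.QCoh.Support
import Groth.Agent.QCoh.DevissageTheta
import Groth.Agent.Lib.BasisHom

/-!
Pulling an epimorphism onto an ideal back to a closed subscheme.
-/

set_option autoImplicit false
set_option linter.style.haveILetI false
set_option linter.unusedSectionVars false
set_option backward.isDefEq.respectTransparency false
set_option backward.isDefEq.respectTransparency.types false
set_option maxHeartbeats 1000000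

universe u

open CategoryTheory CategoryTheory.Limits AlgebraicGeometry TopologicalSpace Opposite
open Groth.Agent.AModX

noncomputable section

namespace Groth.Agent.H28.Serre2

variable {X Y : Scheme.{u}} (f : X ⟶ Y)

theorem comap_ideal_eq [IsAffineHom f] (K : Y.IdealSheafData) {W : Y.Opens} (hW : IsAffineOpen W) :
    (K.comap f).ideal ⟨f ⁻¹ᵁ W, hW.preimage f⟩ = (K.ideal ⟨W, hW⟩).map (f.app W).hom := by
  rw [← H23.StalkIdeal.tI_fromSpec (K.comap f) ⟨f ⁻¹ᵁ W, hW.preimage f⟩,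
    ← H23.StalkIdeal.tI_fromSpec K ⟨W, hW⟩, ← Scheme.IdealSheafData.comap_comp, ← H23.StalkIdeal.tI_comap,
    ← Scheme.IdealSheafData.comap_comp]
  congr 2
  rw [Scheme.Hom.app_eq_appLE]
  exact (IsAffineOpen.SpecMap_appLE_fromSpec f hW (hW.preimage f) le_rfl).symm

variable [IsClosedImmersion f] {Z : Scheme.{u}} (y : Z ⟶ Y) [IsClosedImmersion y]
  {E : Y.Modules}

theorem exists_epi_pullback (p : E ⟶ ClSub.idealMod y.ker) [Epi p] (hE : Coh.IsQCoh E) :
    ∃ q : (Scheme.Modules.pullback f).obj E ⟶ ClSub.idealMod (pullback.fst f y).ker, Epi q := by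
  haveI : IsClosedImmersion (pullback.fst f y) := inferInstance
  let z := pullback.fst f y
  let adj := Scheme.Modules.pullbackPushforwardAdjunction f
  let φ : E ⟶ (Scheme.Modules.pushforward f).obj (Coh.structureModule X) :=
    p ≫ ClSub.idealModι y.ker ≫ ClSub.unitToPush f
  let q₀ : (Scheme.Modules.pullback f).obj E ⟶ Coh.structureModule X := (adj.homEquiv _ _).symm φ
  have hq₀ : ∀ (W : Y.Opens) (t : Γ(E, W)),
      (show Γ(X, f ⁻¹ᵁ W) from q₀.app (f ⁻¹ᵁ W) ((adj.unit.app E).app W t)) =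
        f.app W (ConormalWedge.fn y (p.app W t)) := fun W t => by
    have h : adj.unit.app E ≫ (Scheme.Modules.pushforward f).map q₀ = φ :=
      (adj.homEquiv_unit _ _ q₀).symm.trans (Equiv.apply_symm_apply _ _)
    exact congr(($h).app W t)
  have hzer : ∀ (W : Y.Opens) (hW : IsAffineOpen W), RingHom.ker (z.app (f ⁻¹ᵁ W)).hom =
      (RingHom.ker (y.app W).hom).map (f.app W).hom := fun W hW => by
    rw [← Scheme.Hom.ker_apply z ⟨f ⁻¹ᵁ W, hW.preimage f⟩, ← Scheme.Hom.ker_apply y ⟨W, hW⟩,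
      Scheme.IdealSheafData.ker_fst_of_isClosedImmersion, comap_ideal_eq f y.ker hW]
  let B : Set X.Opens := {V | ∃ (W : Y.Opens), IsAffineOpen W ∧ f ⁻¹ᵁ W = V}
  have hB : Opens.IsBasis B := by
    refine Opens.isBasis_iff_nbhd.2 fun {U x} hx => ?_
    obtain ⟨O, hO, hOU⟩ := f.isClosedEmbedding.isInducing.isOpen_iff.1 U.2
    have hxO : f x ∈ O := by
      have : x ∈ f.base ⁻¹' O := hOU ▸ hx
      exact this
    obtain ⟨_, ⟨W, hW, rfl⟩, hxW, hWO⟩ := Y.isBasis_affineOpens.exists_subset_of_mem_open hxO hO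
    exact ⟨f ⁻¹ᵁ W, ⟨W, hW, rfl⟩, hxW, fun w hw => by
      have : w ∈ f.base ⁻¹' O := hWO hw
      rwa [hOU] at this⟩
  have hEX := QCoh.isQCoh_pullback f hE
  have hzero : q₀ ≫ ClSub.toSubscheme z.ker = 0 := by
    refine Scheme.Modules.hom_ext _ _ fun V => ?_
    ext v
    refine BasisHom.eq_of_basis hB _ _ fun V' hV' hle => ?_
    obtain ⟨W, hW, rfl⟩ := hV'
    show res _ hle ((q₀ ≫ ClSub.toSubscheme z.ker).app V v) = res _ hle 0
    rw [map_zero, ← app_res]
    generalize res _ hle v = v'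
    obtain ⟨t, rfl⟩ := (QCoh.unit_app_closed f hE hW).1 v'
    have hmem : f.app W (ConormalWedge.fn y (p.app W t)) ∈ RingHom.ker (z.app (f ⁻¹ᵁ W)).hom := by
      rw [hzer W hW]
      exact Ideal.mem_map_of_mem _ (ConormalWedge.fn_mem y _)
    obtain ⟨k, hk⟩ := ConormalWedge.exists_fn z _ hmem
    have e : q₀.app (f ⁻¹ᵁ W) ((adj.unit.app E).app W t) = (ClSub.idealModι z.ker).app (f ⁻¹ᵁ W) k :=
      (hq₀ W t).trans hk.symm
    show (ClSub.toSubscheme z.ker).app (f ⁻¹ᵁ W) (q₀.app (f ⁻¹ᵁ W) _) = 0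
    rw [e]
    exact congr(($(kernel.condition (ClSub.toSubscheme z.ker))).app (f ⁻¹ᵁ W) k)
  let q : (Scheme.Modules.pullback f).obj E ⟶ ClSub.idealMod z.ker := kernel.lift _ q₀ hzero
  refine ⟨q, BasisHom.epi_of_basis hB q fun V hV k => ?_⟩
  obtain ⟨W, hW, rfl⟩ := hV
  have hk := ConormalWedge.fn_mem z k
  rw [hzer W hW, Ideal.mem_map_iff_of_surjective _ (Scheme.Hom.app_surjective f W hW)] at hk
  obtain ⟨a, ha, hak⟩ := hk
  obtain ⟨s, hs⟩ := ConormalWedge.exists_fn y a ha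
  obtain ⟨t, ht⟩ := QCoh.app_surjective_of_epi hE (ConormalWedge.isQCoh_idealMod y) p hW s
  refine ⟨(adj.unit.app E).app W t, ConormalWedge.fn_injective z ?_⟩
  have e : q ≫ ClSub.idealModι z.ker = q₀ := kernel.lift_ι _ _ _
  refine Eq.trans (congr(($e).app (f ⁻¹ᵁ W) ((adj.unit.app E).app W t))) ?_
  refine (hq₀ W t).trans ?_
  rw [ht, hs, hak]

end Groth.Agent.H28.Serre2
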