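import Groth.Agent.Synt29.PointsReg
import Groth.Agent.Lib.RegExtFormula
import Groth.Agent.H28.ExtSh
import Groth.Agent.H23.RedSub
import Groth.Agent.InvX.Tensor
import Groth.Agent.PicClLib.Basic

/-!
A finite set of closed points of a smooth surface as a codimension two centre.
-/

set_option autoImplicit false
set_option linter.style.haveILetI false
set_option linter.unusedSectionVars false
set_option backward.isDefEq.respectTransparency false
set_option backward.isDefEq.respectTransparency.types false
set_option maxHeartbeats 1000000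

universe u

open CategoryTheory CategoryTheory.Limits AlgebraicGeometry TopologicalSpace Opposite
open Groth.Agent.AModX

noncomputable section

namespace Groth.Agent.H28.Serre2

/-- A finite set of closed points as a reduced closed subscheme. -/
theorem exists_points_scheme {P : Scheme.{u}} (S : Set P) (hS : S.Finite) (hcl : ∀ p ∈ S, IsClosed ({p} : Set P)) :
    ∃ (Y : Scheme.{u}) (y : Y ⟶ P) (_ : IsClosedImmersion y),
      IsReduced Y ∧ DiscreteTopology Y ∧ Finite Y ∧ Set.range y = S := by
  have hc : IsClosed S := by
    rw [← Set.biUnion_of_singleton S]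
    exact hS.isClosed_biUnion hcl
  let I := Scheme.IdealSheafData.vanishingIdeal ⟨S, hc⟩
  have hr : Set.range I.subschemeι = S := by
    rw [Scheme.IdealSheafData.range_subschemeι, Scheme.IdealSheafData.coe_support_vanishingIdeal]
    rfl
  haveI : IsReduced I.subscheme := inferInstance
  haveI : Finite I.subscheme := by
    haveI : Finite (Set.range I.subschemeι.base) := by rw [hr]; exact hS
    exact Finite.of_injective_finite_range I.subschemeι.isClosedEmbedding.injective
  haveI : DiscreteTopology I.subscheme := by
    haveI : T1Space I.subscheme := ⟨fun z => by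
      have : ({z} : Set I.subscheme) = I.subschemeι.base ⁻¹' {I.subschemeι z} := by
        ext w
        exact (I.subschemeι.isClosedEmbedding.injective.eq_iff).symm
      rw [this]
      exact (hcl _ (hr ▸ ⟨z, rfl⟩)).preimage I.subschemeι.continuous⟩
    exact Finite.instDiscreteTopology
  exact ⟨I.subscheme, I.subschemeι, inferInstance, inferInstance, inferInstance, inferInstance, hr⟩

/-- Invertible modules on a discrete scheme are trivial. -/
theorem nonempty_iso_of_discrete {Z : Scheme.{u}} [DiscreteTopology Z] {M : Z.Modules} (hM : PicF.IsInvertible M) :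
    Nonempty (M ≅ Coh.structureModule Z) := by
  let U : Z → Z.Opens := fun z => ⟨{z}, isOpen_discrete _⟩
  have key : ∀ z : Z, ∃ e : Γ(M, U z), InvX.IsFrame e := fun z => by
    obtain ⟨V, hz, e, he⟩ := InvX.exists_frame hM z
    have hle : U z ≤ V := fun w hw => by
      rw [show w = z from hw]
      exact hz
    exact ⟨res M hle e, he.res hle⟩
  choose e he using key
  obtain ⟨t, ht, -⟩ := existsUnique_glue (M := M) U (fun z => le_top)
    (fun p _ => ⟨p, rfl⟩) e fun a b => by
      refine eq_of_locally _ _ fun p hp => ?_
      obtain rfl : a = b := (show p = a from hp.1).symm.trans (show p = b from hp.2)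
      exact ⟨U a ⊓ U a, le_rfl, hp, rfl⟩
  have hfr : InvX.IsFrame t := InvX.isFrame_of_germ fun z hz => by
    have h := (he z).germ_bijective (show z ∈ U z from rfl)
    rw [← ht z, InvX.germ_res'] at h
    exact h
  haveI : IsIso (InvX.ofSect t) := by
    refine Scheme.Modules.Hom.isIso_iff_isIso_app.2 fun V => (ConcreteCategory.isIso_iff_bijective _).2 ?_
    exact hfr V le_top
  exact ⟨(asIso (InvX.ofSect t)).symm⟩

/-- The data of the correspondence for points of the plane. -/
theorem exists_det {k : Type u} [Field k] {P : Scheme.{u}} (f : P ⟶ Spec (CommRingCat.of k)) [Smooth f]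
    [IsIntegral P] (hP : topologicalKrullDim P = 2) {Y : Scheme.{u}} (y : Y ⟶ P) [IsClosedImmersion y]
    [IsReduced Y] [DiscreteTopology Y] :
    RegImm.IsRegularImmersionOfCodim RegImm.Kind.regular 2 y ∧
      ∃ L : Y.Modules, ExtPow.IsExtPow 2 (Omega.conormal y) L ∧
        Nonempty (L ≅ (Scheme.Modules.pullback y).obj (Coh.structureModule P)) := by
  have hi : RegImm.IsRegularImmersionOfCodim RegImm.Kind.regular 2 y := by
    refine ⟨inferInstance, fun z => ?_⟩
    obtain ⟨U, hU, hz, rs, hlen, hreg, hker⟩ := Synt29.PointsReg.exists_seq f hP y z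
    refine ⟨⟨U, hU⟩, hz, inferInstance, rs, hlen, hreg, ?_⟩
    rw [← hker, Scheme.Hom.ker_apply]
  obtain ⟨-, hN⟩ := Synt29.PointsReg.regClosed f hP y
  obtain ⟨L, -, hL⟩ := H28.ExtSh.exists_extPow (m := 2) (H28.KvbModel.lf_of_rank hN)
  refine ⟨hi, L, hL, ?_⟩
  obtain ⟨φ, hφ⟩ := hL
  obtain ⟨e⟩ := nonempty_iso_of_discrete (RegExtFormula.isInvertible_L y φ hi hφ)
  obtain ⟨e'⟩ := nonempty_iso_of_discrete
    (PicClLib.isInvertible_pullback y (InvX.isInvertible_structureModule (X := P)))
  exact ⟨e ≪≫ e'.symm⟩

end Groth.Agent.H28.Serre2
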