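import Groth.Agent.Synt29.SubLine
import Groth.Agent.Synt29.LineSimple
import Groth.Agent.SurfRows.LineBundles
import Groth.Agent.SeesawX.Glue

/-!
A bundle of rank two and trivial determinant on the line with a quotient line bundle of degree `-a ≤ 0` splits.
-/

set_option autoImplicit false
set_option linter.style.haveILetI false
set_option linter.unusedSectionVars false
set_option backward.isDefEq.respectTransparency false
set_option backward.isDefEq.respectTransparency.types false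
set_option maxHeartbeats 1000000

universe u

open CategoryTheory CategoryTheory.Limits AlgebraicGeometry TopologicalSpace Opposite

noncomputable section

namespace Groth.Agent.H28.Serre2

open Groth.Agent Groth.Agent.H23.PicMul Groth.Agent.Synt29

variable {k : Type u} [Field k] [IsAlgClosed k]

local notation "P¹" => CohB1.ProjSpace 1 k
local notation "O" => fun d : ℤ => Twist.twistProjSpace 1 k d

theorem twist_inj {a b : ℤ} (h : PnEuler.tw 1 k a = PnEuler.tw 1 k b) : a = b := by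
  obtain ⟨e⟩ := cl_eq_iff.1 h
  haveI := CurveCover.isProper_line k
  haveI := CurveCover.smooth_line k
  haveI := CurveCover.isIntegral_line k
  have h1 := CurveRR.deg_congr k e 1
  rwa [SurfRows.deg_twist, SurfRows.deg_twist] at h1

theorem exists_split_line {F : (CohB1.ProjSpace 1 k).Modules} (hF : FlatMod.IsFinLocFreeOfRank 2 F)
    (hdet : ExtPow.IsExtPow 2 F (Coh.structureModule (CohB1.ProjSpace 1 k))) (a : ℕ)
    (q : F ⟶ Twist.twistProjSpace 1 k (-(a : ℤ))) [Epi q] :
    Nonempty (F ≅ Twist.twistProjSpace 1 k (a : ℤ) ⊞ Twist.twistProjSpace 1 k (-(a : ℤ))) := by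
  letI : (CohB1.ProjSpace 1 k).Over (Spec (CommRingCat.of k)) := ⟨CohB1.ProjSpace.toSpec 1 k⟩
  haveI : QuasiSeparated (CohB1.ProjSpace.toSpec 1 k) := by
    haveI := PnCoh.Chow.isProper_toSpec 1 k
    infer_instance
  haveI : IsIntegral (CohB1.ProjSpace 1 k) := H23.PnChart.isIntegral_projSpace 1 k
  haveI : IsLocallyNoetherian (CohB1.ProjSpace 1 k) := PnCoh.Finite.isLocallyNoetherian_projSpace 1 k
  haveI : ∀ x : CohB1.ProjSpace 1 k, UniqueFactorizationMonoid ((CohB1.ProjSpace 1 k).presheaf.stalk x) := fun x => by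
    haveI := LefPenLib.smooth_toSpec 1 k
    haveI := SmoothReg.isRegularLocalRing_stalk_of_mem_smoothLocus (CohB1.ProjSpace.toSpec 1 k) (x := x)
      (by rw [(CohB1.ProjSpace.toSpec 1 k).smoothLocus_eq_top]; trivial)
    exact (Groth.Agent.S2821.result _).2
  have hA := Rank2Pn.rank_O (n := 1) (k := k) (-(a : ℤ))
  obtain ⟨x⟩ : Nonempty (CohB1.ProjSpace 1 k) := inferInstance
  have hne : q ≠ 0 := fun h => by
    subst h
    exact NullCorr.not_isZero_of_rank (by norm_num) hA
      ((IsZero.iff_id_eq_zero _).2 ((cancel_epi (0 : F ⟶ Twist.twistProjSpace 1 k (-(a : ℤ)))).1 (by simp)))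
  have hnm : ¬ Mono q := fun hm => by
    haveI := isIso_of_mono_of_epi q
    have := SeesawX.rank_unique x hF ((SubLine.rank_of_cl (n := 1) (k := k) (cl_eq_iff.2 ⟨asIso q⟩)) hA)
    omega
  have hM := Rank2.rank_kernel hF (SubLine.lf hA) q hne hnm
  obtain ⟨b, ⟨eb⟩⟩ := Rank2Pn.exists_iso_O hM
  let S : ShortComplex (CohB1.ProjSpace 1 k).Modules := ShortComplex.mk (kernel.ι q) q (kernel.condition q)
  have hS : S.ShortExact := { exact := ShortComplex.exact_kernel q }
  obtain ⟨T, hT, hT1, hT2, hT3⟩ := SubLine.exists_ses hS hM (SubLine.lf hA)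
  have hT3z : IsZero T.X₃ := by
    obtain ⟨e⟩ := cl_eq_iff.1 hT3
    exact (H28.KvbModel.isZero_L hA one_lt_two).of_iso e
  haveI := hT.mono_f
  haveI : Epi T.f := hT.exact.epi_f (hT3z.eq_of_tgt _ _)
  haveI := isIso_of_mono_of_epi T.f
  obtain ⟨eL⟩ := H28.ExtSh.nonempty_iso_L (m := 2) (SubLine.lf hF) hdet
  have hab : PnEuler.tw 1 k (b + -(a : ℤ)) = PnEuler.tw 1 k 0 := by
    rw [← PnEuler.tw_add, PnEuler.tw_zero, H23.PicMul.one_def, ← cl_eq_iff.2 ⟨eL⟩]
    refine Eq.trans ?_ ((cl_eq_iff.2 ⟨asIso T.f⟩).trans hT2)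
    rw [hT1]
    exact congrArg (· * _) (cl_eq_iff.2 ⟨eb.symm⟩)
  obtain rfl : b = (a : ℤ) := by
    have := twist_inj hab
    omega
  let Λ : LineSimple.Line (CohB1.ProjSpace 1 k) :=
    { L := Twist.twistProjSpace 1 k (-(a : ℤ))
      inv := Twist.twistProjSpace 1 k (a : ℤ)
      lf := SubLine.lf hA
      lfInv := SubLine.lf (Rank2Pn.rank_O (n := 1) (k := k) (a : ℤ))
      iso := cl_eq_iff.1 (by
        rw [cl_tensor, ← H23.PicMul.one_def]
        show PnEuler.tw 1 k _ * PnEuler.tw 1 k _ = 1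
        rw [PnEuler.tw_add, add_neg_cancel, PnEuler.tw_zero]) }
  have h1 : Subsingleton (Coh.HH (CohB1.ProjSpace 1 k) ((LineSimple.tens Λ.inv).obj S.X₁) 1) := by
    obtain ⟨e⟩ := cl_eq_iff.1 (show PicF.cl ((LineSimple.tens Λ.inv).obj S.X₁) =
        PicF.cl (Twist.twistProjSpace 1 k ((a : ℤ) + a)) by
      rw [show PicF.cl ((LineSimple.tens Λ.inv).obj S.X₁) = _ from PnEuler.cl_tens Λ.inv S.X₁,
        cl_eq_iff.2 ⟨eb⟩]
      exact PnEuler.tw_add 1 k (a : ℤ) (a : ℤ))
    exact QCoh.subsingleton_HH_of_iso e.symm 1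
      (S0844.result k 1 _ 1 (fun h => by omega) (fun h => by omega))
  obtain ⟨s, hs⟩ := LineSimple.exists_lift (k := k) Λ hS h1 (𝟙 _)
  let sp := ShortComplex.Splitting.ofExactOfSection S hS.exact s hs hS.mono_f
  exact ⟨sp.isoBinaryBiproduct ≪≫ biprod.mapIso eb (Iso.refl _)⟩

end Groth.Agent.H28.Serre2
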