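import Groth.Agent.H28.Serre2.Bundle
import Groth.Agent.H28.Serre2.Points
import Groth.Agent.H28.Serre2.Line
import Groth.Agent.H28.Serre2.Split
import Groth.Agent.H28.Serre2.Card
import Groth.Agent.Synt29.ExtPowPull

/-!
Bundles of rank two on the plane with prescribed jumping lines.
-/

set_option autoImplicit false
set_option linter.style.haveILetI false
set_option linter.unusedSectionVars false
set_option backward.isDefEq.respectTransparency false
set_option backward.isDefEq.respectTransparency.types false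
set_option maxHeartbeats 1000000

universe u

open CategoryTheory CategoryTheory.Limits AlgebraicGeometry TopologicalSpace Opposite

noncomputable section

namespace Groth.Agent.H28.Serre2

open Groth.Agent Groth.Agent.H23.PicMul Groth.Agent.Synt29

variable {k : Type u} [Field k] [IsAlgClosed k]

theorem extPow_congr {X : Scheme.{u}} {M L L' : X.Modules} {m : ℕ} (hL : ExtPow.IsExtPow m M L) (u : L ≅ L') :
    ExtPow.IsExtPow m M L' := by
  obtain ⟨φ, hφ⟩ := hL
  let U' : ∀ U : X.affineOpens, Γ(L', U.1) ≃ₗ[Γ(X, U.1)] Γ(L, U.1) := fun U =>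
    { toFun := u.inv.app U.1
      invFun := u.hom.app U.1
      left_inv := fun v => congr(($(u.inv_hom_id)).app U.1 v)
      right_inv := fun v => congr(($(u.hom_inv_id)).app U.1 v)
      map_add' := map_add _
      map_smul' := fun r v => Scheme.Modules.Hom.app_smul u.inv r v }
  refine ⟨fun U => (U' U).trans (φ U), fun U V h e => ?_⟩
  show AModX.res L' h (u.hom.app U.1 ((φ U).symm _)) = u.hom.app V.1 ((φ V).symm _)
  rw [← AModX.app_res]
  exact congrArg (u.hom.app V.1) (hφ U V h e)

theorem split_on_line {P : Scheme.{u}} {Y : Scheme.{u}} (y : Y ⟶ P) [IsClosedImmersion y]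
    [IsReduced Y] [DiscreteTopology Y] [Finite Y] {E : P.Modules} (hEq : Coh.IsQCoh E)
    (hE : FlatMod.IsFinLocFreeOfRank 2 E) (hdet : ExtPow.IsExtPow 2 E (Coh.structureModule P))
    (p : E ⟶ ClSub.idealMod y.ker) [Epi p] (i : CohB1.ProjSpace 1 k ⟶ P) [IsClosedImmersion i] :
    Nonempty ((Scheme.Modules.pullback i).obj E ≅
      Twist.twistProjSpace 1 k (Nat.card ↥(pullback i y) : ℤ) ⊞
        Twist.twistProjSpace 1 k (-(Nat.card ↥(pullback i y) : ℤ))) := by
  letI : (CohB1.ProjSpace 1 k).Over (Spec (CommRingCat.of k)) := ⟨CohB1.ProjSpace.toSpec 1 k⟩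
  haveI : IsProper ((CohB1.ProjSpace 1 k) ↘ Spec (CommRingCat.of k)) := CurveCover.isProper_line k
  haveI : Smooth ((CohB1.ProjSpace 1 k) ↘ Spec (CommRingCat.of k)) := CurveCover.smooth_line k
  haveI : IsIntegral (CohB1.ProjSpace 1 k) := CurveCover.isIntegral_line k
  let Z := pullback i y
  let z : Z ⟶ CohB1.ProjSpace 1 k := pullback.fst i y
  haveI : IsClosedImmersion z := inferInstanceAs (IsClosedImmersion (pullback.fst i y))
  let w : Z ⟶ Y := pullback.snd i y
  haveI : IsClosedImmersion w := inferInstanceAs (IsClosedImmersion (pullback.snd i y))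
  haveI : Finite Z := Finite.of_injective _ w.isClosedEmbedding.injective
  haveI : DiscreteTopology Z := w.isClosedEmbedding.isEmbedding.discreteTopology
  haveI : IsReduced Z := by
    haveI : ∀ v : Z, _root_.IsReduced (Z.presheaf.stalk v) := fun v => by
      letI := (PointsReg.isField_stalk (w v)).toField
      have hs := w.stalkMap_surjective v
      have hb : Function.Bijective (w.stalkMap v).hom := ⟨RingHom.injective _, hs⟩
      exact isReduced_of_injective (RingEquiv.ofBijective _ hb).symm.toRingHom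
        (RingEquiv.ofBijective _ hb).symm.injective
    exact isReduced_of_isReduced_stalk Z
  have hdim := CurveCover.dim_line k
  have hcart : BlowUp.IsEffCartierIdeal z.ker := by
    intro v
    by_cases hv : v ∈ Set.range z
    · obtain ⟨v, rfl⟩ := hv
      obtain ⟨U, hU, hvU, rs, hlen, hreg, hker⟩ := PointsReg.exists_seq
        ((CohB1.ProjSpace 1 k) ↘ Spec (CommRingCat.of k)) (n := 1) hdim z v
      obtain ⟨r, rfl⟩ := List.length_eq_one_iff.1 hlen
      refine ⟨⟨U, hU⟩, hvU, r, ?_, by rw [hker, Ideal.ofList_singleton]⟩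
      have h := hreg.toIsWeaklyRegular
      rw [RingTheory.Sequence.isWeaklyRegular_singleton_iff] at h
      exact mem_nonZeroDivisors_iff_right.2 fun b hb => h (show r • b = r • (0 : Γ(CohB1.ProjSpace 1 k, U)) by rw [smul_zero, smul_eq_mul, mul_comm]; exact hb)
    · obtain ⟨_, ⟨U, hU, rfl⟩, hvU, hsub⟩ := (CohB1.ProjSpace 1 k).isBasis_affineOpens.exists_subset_of_mem_open
        hv z.isClosedEmbedding.isClosed_range.isOpen_compl
      refine ⟨⟨U, hU⟩, hvU, 1, one_mem _, ?_⟩
      rw [Ideal.span_singleton_one, Ideal.eq_top_iff_one, Scheme.Hom.ker_apply]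
      have hbot : z ⁻¹ᵁ U = ⊥ := bot_unique fun x hx => (hsub hx ⟨x, rfl⟩).elim
      haveI : Subsingleton Γ(Z, z ⁻¹ᵁ U) := by rw [hbot]; infer_instance
      exact Subsingleton.elim _ _
  obtain ⟨d, ⟨eJ⟩⟩ := Rank2Pn.exists_iso_O (n := 1) (k := k)
    (InvEnd.isFinLocFreeOfRank_one (H26.IdealCl.isInvertible_idealMod hcart))
  have hd : d = -(Nat.card Z : ℤ) := by
    obtain ⟨L, hL, ⟨α⟩⟩ := H23.PicInv.exists_inverse (H26.IdealCl.isInvertible_idealMod hcart)
    obtain ⟨hc⟩ := H23.PicMul.comm L (ClSub.idealMod z.ker)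
    haveI : IsFinite (z.ker.subschemeι ≫ ((CohB1.ProjSpace 1 k) ↘ Spec (CommRingCat.of k))) :=
      (S1604.result k (CohB1.ProjSpace 1 k) hdim.le z.ker hcart L hL ⟨hc ≪≫ α⟩ 1 (Coh.structureModule _)
        (InvEnd.isFinLocFreeOfRank_one InvX.isInvertible_structureModule)).1
    haveI : IsFinite (z ≫ ((CohB1.ProjSpace 1 k) ↘ Spec (CommRingCat.of k))) := by
      have hh : IsFinite (z.toImage ≫ z.ker.subschemeι ≫ ((CohB1.ProjSpace 1 k) ↘ Spec (CommRingCat.of k))) :=
        inferInstance
      rwa [← Category.assoc, show z.toImage ≫ z.ker.subschemeι = z from z.toImage_imageι] at hh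
    letI : Z.Over (Spec (CommRingCat.of k)) := ⟨z ≫ ((CohB1.ProjSpace 1 k) ↘ Spec (CommRingCat.of k))⟩
    haveI : IsFinite (Z ↘ Spec (CommRingCat.of k)) :=
      inferInstanceAs (IsFinite (z ≫ ((CohB1.ProjSpace 1 k) ↘ Spec (CommRingCat.of k))))
    obtain ⟨pt⟩ : Nonempty (Spec (CommRingCat.of k)) := inferInstance
    have h1 := PicCurve.deg_idealMod k hdim hcart pt
    rw [CurveRR.deg_congr k eJ 1, SurfRows.deg_twist] at h1
    have h2 : (z.ker.subschemeι ≫ ((CohB1.ProjSpace 1 k) ↘ Spec (CommRingCat.of k))).finrank pt =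
        (Z ↘ Spec (CommRingCat.of k)).finrank pt := by
      show _ = (z ≫ ((CohB1.ProjSpace 1 k) ↘ Spec (CommRingCat.of k))).finrank pt
      have hh := Scheme.Hom.finrank_comp_left_of_isIso z.toImage
        (z.ker.subschemeι ≫ ((CohB1.ProjSpace 1 k) ↘ Spec (CommRingCat.of k)))
      rw [← hh]
      congr 1
      rw [← Category.assoc]
      exact congrArg (· ≫ _) z.toImage_imageι
    rw [h2, PicCurve.finrank_apply_eq k Z pt, finrank_h0_eq_card k Z] at h1
    exact h1
  subst hd
  obtain ⟨q, hq⟩ := exists_epi_pullback i y p hEq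
  exact exists_split_line (TFOneX.isFinLocFreeOfRank_pullback i hE)
    (by
      obtain ⟨φ, hφ⟩ := ExtPowPull.isExtPow_pullback (g := i) hEq hdet
      let u : (Scheme.Modules.pullback i).obj (Coh.structureModule P) ≅ Coh.structureModule (CohB1.ProjSpace 1 k) :=
        (cl_eq_iff.1 ((map_one (H23.PicMul.pullHom i)).trans rfl)).some
      exact extPow_congr ⟨φ, hφ⟩ u)
    (Nat.card Z) (q ≫ eJ.hom)

theorem card_pullback {P : Scheme.{u}} {X Y : Scheme.{u}} (i : X ⟶ P) [IsClosedImmersion i] (y : Y ⟶ P)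
    [IsClosedImmersion y] {m : ℕ} (x : Fin m → P) (hx : Function.Injective x) (hy : Set.range y = Set.range x) :
    Nat.card ↥(pullback i y) = Nat.card {j : Fin m // x j ∈ Set.range i.base} := by
  let z := pullback.fst i y
  have hz : Function.Injective z.base := z.isClosedEmbedding.injective
  rw [← Nat.card_range_of_injective hz, show Set.range z.base = i.base ⁻¹' Set.range x by
    rw [← hy]; exact Scheme.Pullback.range_fst i y]
  rw [← Nat.card_image_of_injective i.isClosedEmbedding.injective, Set.image_preimage_eq_inter_range,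
    show Set.range x ∩ Set.range i.base = x '' {j | x j ∈ Set.range i.base} by
      ext p
      constructor
      · rintro ⟨⟨j, rfl⟩, h⟩; exact ⟨j, h, rfl⟩
      · rintro ⟨j, h, rfl⟩; exact ⟨⟨j, rfl⟩, h⟩,
    Nat.card_image_of_injective hx]
  rfl

end Groth.Agent.H28.Serre2
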