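import Groth.Agent.H28.LamTwist
import Groth.Agent.StratX.Sheaf

/-!
The rank of a twist by an invertible module.
-/

set_option autoImplicit false
set_option backward.isDefEq.respectTransparency false
set_option backward.isDefEq.respectTransparency.types false
set_option linter.style.haveILetI false

universe u

open CategoryTheory AlgebraicGeometry TopologicalSpace Opposite

namespace Groth.Agent.H28.Serre2

theorem rank_twist {X : Scheme.{u}} {L F : X.Modules} (hL : PicF.IsInvertible L) {r : ℕ}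
    (hF : FlatMod.IsFinLocFreeOfRank r F) : FlatMod.IsFinLocFreeOfRank r (CohB1.tensorMod L F) := by
  have hFq : Coh.IsQCoh F := QCoh.isQCoh_of_isFinLocFree fun x => let ⟨U, hx, e⟩ := hF x; ⟨U, r, hx, e⟩
  have hLq : Coh.IsQCoh L := QCoh.isQCoh_of_isFinLocFree fun x =>
    let ⟨U, hx, e⟩ := InvEnd.isFinLocFreeOfRank_one hL x; ⟨U, 1, hx, e⟩
  have key : ∀ x : X, ∃ W : X.Opens, ∃ _ : IsAffineOpen W, x ∈ W ∧ ∃ t : Γ(L, W), InvX.IsFrame t := fun x => by
    obtain ⟨U, hx, t, ht⟩ := InvX.exists_frame hL x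
    obtain ⟨_, ⟨W, hW, rfl⟩, hxW, hWU⟩ := X.isBasis_affineOpens.exists_subset_of_mem_open hx U.2
    exact ⟨W, hW, hxW, _, ht.res hWU⟩
  choose W hW hxW t ht using key
  refine ConsPropLib.isFinLocFreeOfRank_of_cover (fun p => (hW p).fromSpec)
    (fun p => ⟨p, by rw [IsAffineOpen.range_fromSpec]; exact hxW p⟩) fun p => ?_
  let N := (CohB1.tensorMod L F).restrict (hW p).fromSpec
  haveI : IsIso N.fromTildeΓ := (isQuasicoherent_iff_isIso_fromTildeΓ N).1
    (QCoh.isQCoh_restrict (hW p).fromSpec (LamTwist.isQCoh_tm hLq hFq))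
  exact (ConsPropLib.isFinLocFreeOfRank_iso (asIso N.fromTildeΓ)).1 ((ConsPropLib.isFinLocFreeOfRank_tilde_iff _ r).2
    (StratX.IsProjRank.of_equiv ((LamTwist.tmEquiv (ht p) F).trans (QCoh.chartEquiv (hW p) _))
      ((StratX.isFinLocFreeOfRank_iff_sections hFq).1 hF (W p) (hW p))))

end Groth.Agent.H28.Serre2
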