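import Groth.Agent.Lib.KoszulZigzag
import Mathlib.Tactic

/-!
Algebra for the local structure of an extension of a codimension two ideal by a line bundle.
-/

set_option autoImplicit false
set_option linter.unusedSectionVars false

universe u v w

noncomputable section

namespace Groth.Agent.H28.Serre2

open Groth.Agent.KoszulZigzag RingTheory.Sequence
open scoped Pointwise

theorem syzygy_two {R : Type u} [CommRing R] (f : Fin 2 → R) (hf : IsWeaklyRegular R (List.ofFn f))
    (a b : R) (h : a * f 0 + b * f 1 = 0) : ∃ t, a = t * f 1 ∧ b = -(t * f 0) := by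
  rw [show List.ofFn f = [f 0, f 1] by simp [List.ofFn_succ], isWeaklyRegular_cons_iff,
    isWeaklyRegular_singleton_iff] at hf
  obtain ⟨h0, h1⟩ := hf
  have hb : b ∈ f 0 • (⊤ : Submodule R R) := by
    refine (Submodule.Quotient.mk_eq_zero _).1 (h1 ?_)
    show f 1 • Submodule.Quotient.mk b = f 1 • (0 : R ⧸ f 0 • (⊤ : Submodule R R))
    rw [smul_zero, ← Submodule.Quotient.mk_smul, Submodule.Quotient.mk_eq_zero]
    exact (Submodule.mem_smul_pointwise_iff_exists _ _ _).2
      ⟨-a, trivial, by rw [smul_eq_mul, smul_eq_mul]; linear_combination -h⟩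
  obtain ⟨s, -, rfl⟩ := (Submodule.mem_smul_pointwise_iff_exists _ _ _).1 hb
  rw [smul_eq_mul] at h ⊢
  refine ⟨-s, ?_, by ring⟩
  have hz : a + s * f 1 = 0 := h0 (show f 0 * (a + s * f 1) = f 0 * 0 by linear_combination h)
  linear_combination hz

section Mod

variable {R : Type u} [CommRing R] {M : Type v} [AddCommGroup M] [Module R M] (q : M →ₗ[R] R) (a₀ : M)
  (hker : ∀ v, q v = 0 ↔ ∃ a : R, a • a₀ = v) (hfree : ∀ a : R, a • a₀ = 0 → a = 0)

include hker hfree in
/-- A kernel generator and a preimage of one. -/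
theorem bijective_unit (u : M) (hu : q u = 1) :
    Function.Bijective (fun c : Fin 2 → R => c 0 • a₀ + c 1 • u) := by
  have hq : q a₀ = 0 := (hker a₀).2 ⟨1, one_smul R a₀⟩
  constructor
  · intro c c' h
    have h' : c 0 • a₀ + c 1 • u = c' 0 • a₀ + c' 1 • u := h
    have h1 : c 1 = c' 1 := by simpa [hq, hu] using congrArg q h'
    have h0 : c 0 = c' 0 := sub_eq_zero.1 (hfree _ (by
      rw [sub_smul]; rw [h1] at h'; exact sub_eq_zero.2 (add_right_cancel h')))
    funext i; fin_cases i <;> assumption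
  · intro v
    obtain ⟨a, ha⟩ := (hker (v - q v • u)).1 (by simp [hu])
    exact ⟨![a, q v], by simp [ha]⟩

include hker hfree in
/-- Lifts of a regular pair generating the image. -/
theorem bijective_pair (f : Fin 2 → R) (hf : IsWeaklyRegular R (List.ofFn f)) (e : Fin 2 → M)
    (he : ∀ l, q (e l) = f l) (him : ∀ v, q v ∈ Ideal.span (Set.range f)) (c : R) (hc : IsUnit c)
    (hrel : f 0 • e 1 - f 1 • e 0 = c • a₀) :
    Function.Bijective (fun b : Fin 2 → R => b 0 • e 0 + b 1 • e 1) := by
  obtain ⟨c', hc'⟩ := hc.exists_left_inv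
  constructor
  · intro b b' h
    have h' : (b 0 - b' 0) • e 0 + (b 1 - b' 1) • e 1 = 0 := by
      have : b 0 • e 0 + b 1 • e 1 = b' 0 • e 0 + b' 1 • e 1 := h
      rw [sub_smul, sub_smul, sub_add_sub_comm, this, sub_self]
    obtain ⟨t, ht0, ht1⟩ := syzygy_two f hf (b 0 - b' 0) (b 1 - b' 1) (by
      simpa [he] using congrArg q h')
    have ht : t * c = 0 := hfree _ (by
      rw [mul_smul, ← hrel, smul_sub, smul_smul, smul_smul]
      rw [ht0, ht1, neg_smul, ← sub_eq_add_neg] at h'
      rw [← neg_sub, h', neg_zero])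
    have ht' : t = 0 := by linear_combination c' * ht - t * hc'
    rw [funext_iff, Fin.forall_fin_two]
    exact ⟨sub_eq_zero.1 (by rw [ht0, ht', zero_mul]), sub_eq_zero.1 (by rw [ht1, ht', zero_mul, neg_zero])⟩
  · intro v
    obtain ⟨b, hb⟩ := Ideal.mem_span_range_iff_exists_fun.1 (him v)
    rw [Fin.sum_univ_two] at hb
    obtain ⟨a, ha⟩ := (hker (v - (b 0 • e 0 + b 1 • e 1))).1 (by simp [he, hb])
    refine ⟨![b 0 - a * c' * f 1, b 1 + a * c' * f 0], ?_⟩
    have h1 : a • a₀ = (a * c') • (f 0 • e 1 - f 1 • e 0) := by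
      rw [hrel, smul_smul, mul_assoc, hc', mul_one]
    rw [h1, eq_sub_iff_add_eq] at ha
    conv_rhs => rw [← ha]
    simp only [Matrix.cons_val_zero, Matrix.cons_val_one]
    simp only [sub_smul, add_smul, smul_sub, mul_smul]
    abel

end Mod

/-- The zigzag of length two. -/
theorem rel_two {R : Type u} [CommRing R] {N : ℕ → Type v} [∀ j, AddCommGroup (N j)] [∀ j, Module R (N j)]
    {M : Type w} [AddCommGroup M] [Module R M] {η : M →ₗ[R] N 0} {d : ∀ j, N j →ₗ[R] N (j + 1)}
    (f : Fin 2 → R) (x : N 2) (g : N 1) (hg : d 1 g = x) (y : Fin 2 → N 0) (hy : ∀ l, d 0 (y l) = f l • g)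
    (m : M) (hm : f 0 • y 1 - f 1 • y 0 = η m) : Rel N η d f x m := by
  let Y : (Fin 2 → R) →ₗ[R] N 0 := Fintype.linearCombination R y
  have hY : ∀ l, Y (Pi.single l 1) = y l := fun l => by simp [Y, Fintype.linearCombination_apply_single]
  refine ⟨AlternatingMap.constOfIsEmpty R (Fin 2 → R) (Fin 0) g, by ext v; simp [hg],
    AlternatingMap.ofSubsingleton R (Fin 2 → R) (N 0) (0 : Fin 1) Y, ?_, fun h => ?_⟩
  · ext v
    rw [LinearMap.compAlternatingMap_apply, del_zero_apply]
    simp [Y, lin, Fintype.linearCombination_apply, Fin.sum_univ_two, map_add, map_smul, hy, add_smul,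
      smul_smul]
  · rw [← hm, del_apply, Fin.sum_univ_two]
    simp [Fin.removeNth_apply, hY, lin_single, sub_eq_add_neg, Fin.succAbove, Fin.tail]

end Groth.Agent.H28.Serre2
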