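import Groth.Agent.H28.Serre2.Class
import Groth.Agent.Lib.AltGlue
import Groth.Agent.QCoh.Extension

/-!
The extension of the ideal by the line bundle attached to a global section of the first injective.
-/

set_option autoImplicit false
set_option linter.style.haveILetI false
set_option linter.unusedSectionVars false
set_option backward.isDefEq.respectTransparency false
set_option backward.isDefEq.respectTransparency.types false
set_option maxHeartbeats 1000000

universe u

open CategoryTheory CategoryTheory.Limits AlgebraicGeometry TopologicalSpace Opposite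
open Groth.Agent.AModX

noncomputable section

namespace Groth.Agent.H28.Serre2

variable {P : Scheme.{u}} {ω : P.Modules} (I : InjectiveResolution ω) {Y : Scheme.{u}} (i : Y ⟶ P)
  [IsClosedImmersion i] (g : Γ(I.cocomplex.X 1, ⊤))

/-- The ideal acting on the section. -/
def psi : ClSub.idealMod i.ker ⟶ I.cocomplex.X 1 := ClSub.idealModι i.ker ≫ InvX.ofSect g

theorem psi_app (W : P.Opens) (s : ConormalWedge.Id i W) :
    (psi I i g).app W s = ConormalWedge.fn i s • res (I.cocomplex.X 1) (le_top : W ≤ ⊤) g := rfl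

variable (hk : ∀ (W : P.Opens), IsAffineOpen W → ∀ a ∈ RingHom.ker (i.app W).hom,
      a • res (I.cocomplex.X 2) (le_top : W ≤ ⊤) ((I.cocomplex.d 1 2).app ⊤ g) = 0)

include hk in
theorem psi_d : psi I i g ≫ I.cocomplex.d 1 2 = 0 := QCoh.hom_eq_zero_of_affine _ fun W hW s => by
  show (I.cocomplex.d 1 2).app W ((psi I i g).app W s) = 0
  rw [psi_app, Scheme.Modules.Hom.app_smul, app_res]
  exact hk W hW _ (ConormalWedge.fn_mem i s)

/-- The map into the cycles. -/
def phi : ClSub.idealMod i.ker ⟶ I.cocomplex.cycles 1 :=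
  I.cocomplex.liftCycles (psi I i g) 2 (by simp) (psi_d I i g hk)

theorem phi_i : phi I i g hk ≫ I.cocomplex.iCycles 1 = psi I i g := HomologicalComplex.liftCycles_i _ _ _ _ _

/-- The extension. -/
def ext2 : P.Modules := pullback (I.cocomplex.toCycles 0 1) (phi I i g hk)

/-- To the injective. -/
def pA : ext2 I i g hk ⟶ I.cocomplex.X 0 := pullback.fst _ _

/-- To the ideal. -/
def pJ : ext2 I i g hk ⟶ ClSub.idealMod i.ker := pullback.snd _ _

theorem pA_d : pA I i g hk ≫ I.cocomplex.d 0 1 = pJ I i g hk ≫ psi I i g := by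
  rw [← phi_i I i g hk, ← I.cocomplex.toCycles_i 0 1, ← Category.assoc, ← Category.assoc]
  exact congrArg (· ≫ _) pullback.condition

theorem aug_toCycles : AffineResolution.aug I ≫ I.cocomplex.toCycles 0 1 = 0 := by
  rw [← cancel_mono (I.cocomplex.iCycles 1), Category.assoc, I.cocomplex.toCycles_i, zero_comp]
  exact I.ι_f_zero_comp_complex_d

/-- From the line bundle. -/
def inc : ω ⟶ ext2 I i g hk :=
  pullback.lift (AffineResolution.aug I) 0 (by rw [aug_toCycles, zero_comp])

theorem inc_pA : inc I i g hk ≫ pA I i g hk = AffineResolution.aug I := pullback.lift_fst _ _ _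

theorem inc_pJ : inc I i g hk ≫ pJ I i g hk = 0 := pullback.lift_snd _ _ _

theorem shortExact : (ShortComplex.mk (inc I i g hk) (pJ I i g hk) (inc_pJ I i g hk)).ShortExact := by
  haveI : Mono (I.ι.f 0) := inferInstance
  haveI : Mono (inc I i g hk ≫ pA I i g hk) := by rw [inc_pA]; exact inferInstanceAs (Mono (I.ι.f 0))
  haveI : Mono (inc I i g hk) := mono_of_mono _ (pA I i g hk)
  haveI := epi_toCycles I 0
  haveI : Epi (pJ I i g hk) := Abelian.epi_pullback_of_epi_f _ _
  refine { exact := ShortComplex.exact_of_f_is_kernel _ (KernelFork.IsLimit.ofι' _ _ fun {Z} a ha => ?_) }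
  have h1 : (a ≫ pA I i g hk) ≫ I.cocomplex.d 0 1 = 0 := by
    rw [Category.assoc, pA_d, ← Category.assoc, ha, zero_comp]
  refine ⟨I.exact₀.fIsKernel.lift (KernelFork.ofι _ h1), pullback.hom_ext ?_ ?_⟩
  · show (_ ≫ inc I i g hk) ≫ pA I i g hk = a ≫ pA I i g hk
    rw [Category.assoc, inc_pA]
    exact I.exact₀.fIsKernel.fac (KernelFork.ofι _ h1) WalkingParallelPair.zero
  · show (_ ≫ inc I i g hk) ≫ pJ I i g hk = a ≫ pJ I i g hk
    rw [Category.assoc, inc_pJ, comp_zero, ha]

theorem exists_sect {W : P.Opens} (y : Γ(I.cocomplex.X 0, W)) (s : ConormalWedge.Id i W)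
    (h : (I.cocomplex.d 0 1).app W y = ConormalWedge.fn i s • res (I.cocomplex.X 1) (le_top : W ≤ ⊤) g) :
    ∃ t : Γ(ext2 I i g hk, W), (pA I i g hk).app W t = y ∧ (pJ I i g hk).app W t = s := by
  let a : ext2 I i g hk ⟶ I.cocomplex.X 0 ⊞ ClSub.idealMod i.ker := biprod.lift (pA I i g hk) (pJ I i g hk)
  let b : I.cocomplex.X 0 ⊞ ClSub.idealMod i.ker ⟶ I.cocomplex.X 1 :=
    biprod.desc (I.cocomplex.d 0 1) (-psi I i g)
  have w : a ≫ b = 0 := by
    rw [biprod.lift_desc, Preadditive.comp_neg, pA_d, add_neg_cancel]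
  haveI : Mono (ShortComplex.mk a b w).f := ⟨fun u v huv => by
    refine pullback.hom_ext ?_ ?_
    · simpa [a, pA, pJ] using congrArg (· ≫ biprod.fst) huv
    · simpa [a, pA, pJ] using congrArg (· ≫ biprod.snd) huv⟩
  have hex : (ShortComplex.mk a b w).Exact := by
    refine ShortComplex.exact_of_f_is_kernel _ (KernelFork.IsLimit.ofι' _ _ fun {Z} c hc => ?_)
    have h1 : (c ≫ biprod.fst) ≫ I.cocomplex.toCycles 0 1 = (c ≫ biprod.snd) ≫ phi I i g hk := by
      rw [← cancel_mono (I.cocomplex.iCycles 1), Category.assoc, Category.assoc, I.cocomplex.toCycles_i,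
        Category.assoc, Category.assoc, phi_i]
      have h2 : c ≫ b = 0 := hc
      have h3 : c ≫ (biprod.fst ≫ I.cocomplex.d 0 1 + biprod.snd ≫ (-psi I i g)) = 0 :=
        (congrArg (c ≫ ·) biprod.desc_eq.symm).trans h2
      rw [Preadditive.comp_add, Preadditive.comp_neg, Preadditive.comp_neg, ← sub_eq_add_neg,
        sub_eq_zero] at h3
      exact h3
    refine ⟨pullback.lift _ _ h1, biprod.hom_ext _ _ ?_ ?_⟩
    · rw [Category.assoc]
      exact (congrArg _ (biprod.lift_fst _ _)).trans (pullback.lift_fst _ _ _)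
    · rw [Category.assoc]
      exact (congrArg _ (biprod.lift_snd _ _)).trans (pullback.lift_snd _ _ _)
  let v : Γ(I.cocomplex.X 0 ⊞ ClSub.idealMod i.ker, W) :=
    (biprod.inl : I.cocomplex.X 0 ⟶ _).app W y + (biprod.inr : ClSub.idealMod i.ker ⟶ _).app W s
  have hv : b.app W v = 0 := by
    show b.app W (_ + _) = 0
    rw [map_add]
    have e1 : b.app W ((biprod.inl : I.cocomplex.X 0 ⟶ I.cocomplex.X 0 ⊞ ClSub.idealMod i.ker).app W y) =
        (I.cocomplex.d 0 1).app W y :=
      congr(($(biprod.inl_desc (I.cocomplex.d 0 1) (-psi I i g))).app W y)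
    have e2 : b.app W ((biprod.inr : ClSub.idealMod i.ker ⟶ I.cocomplex.X 0 ⊞ ClSub.idealMod i.ker).app W s) =
        -(psi I i g).app W s :=
      congr(($(biprod.inr_desc (I.cocomplex.d 0 1) (-psi I i g))).app W s)
    rw [e1, e2, h, psi_app, add_neg_cancel]
  obtain ⟨t, ht⟩ := BasisHom.exists_app_eq_of_exact hex W v hv
  have hfst : a ≫ biprod.fst = pA I i g hk := biprod.lift_fst _ _
  have hsnd : a ≫ biprod.snd = pJ I i g hk := biprod.lift_snd _ _
  refine ⟨t, ?_, ?_⟩
  · rw [← hfst]
    show (biprod.fst : I.cocomplex.X 0 ⊞ ClSub.idealMod i.ker ⟶ _).app W (a.app W t) = y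
    rw [show a.app W t = v from ht, map_add]
    have e1 := congr(($((biprod.inl_fst : (biprod.inl : I.cocomplex.X 0 ⟶ I.cocomplex.X 0 ⊞ ClSub.idealMod i.ker) ≫ biprod.fst = _))).app W y)
    have e2 := congr(($((biprod.inr_fst : (biprod.inr : ClSub.idealMod i.ker ⟶ I.cocomplex.X 0 ⊞ ClSub.idealMod i.ker) ≫ biprod.fst = _))).app W s)
    exact (congrArg₂ (· + ·) e1 e2).trans (add_zero y)
  · rw [← hsnd]
    show (biprod.snd : I.cocomplex.X 0 ⊞ ClSub.idealMod i.ker ⟶ _).app W (a.app W t) = s
    rw [show a.app W t = v from ht, map_add]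
    have e1 := congr(($((biprod.inl_snd : (biprod.inl : I.cocomplex.X 0 ⟶ I.cocomplex.X 0 ⊞ ClSub.idealMod i.ker) ≫ biprod.snd = _))).app W y)
    have e2 := congr(($((biprod.inr_snd : (biprod.inr : ClSub.idealMod i.ker ⟶ I.cocomplex.X 0 ⊞ ClSub.idealMod i.ker) ≫ biprod.snd = _))).app W s)
    exact (congrArg₂ (· + ·) e1 e2).trans (zero_add s)

theorem sect_ext {W : P.Opens} {t t' : Γ(ext2 I i g hk, W)}
    (hA : (pA I i g hk).app W t = (pA I i g hk).app W t')
    (hJ : (pJ I i g hk).app W t = (pJ I i g hk).app W t') : t = t' := by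
  let a : ext2 I i g hk ⟶ I.cocomplex.X 0 ⊞ ClSub.idealMod i.ker := biprod.lift (pA I i g hk) (pJ I i g hk)
  haveI : Mono a := ⟨fun u v huv => by
    refine pullback.hom_ext ?_ ?_
    · simpa [a, pA, pJ] using congrArg (· ≫ biprod.fst) huv
    · simpa [a, pA, pJ] using congrArg (· ≫ biprod.snd) huv⟩
  apply QCoh.app_injective a W
  have key : ∀ v : Γ(I.cocomplex.X 0 ⊞ ClSub.idealMod i.ker, W),
      v = (biprod.inl : I.cocomplex.X 0 ⟶ _).app W ((biprod.fst : _ ⟶ I.cocomplex.X 0).app W v) +
        (biprod.inr : ClSub.idealMod i.ker ⟶ _).app W ((biprod.snd : _ ⟶ ClSub.idealMod i.ker).app W v) :=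
    fun v => congr(($((biprod.total (X := I.cocomplex.X 0) (Y := ClSub.idealMod i.ker)).symm)).app W v)
  have hf : ∀ u, (biprod.fst : _ ⟶ I.cocomplex.X 0).app W (a.app W u) = (pA I i g hk).app W u := fun u =>
    congr(($(biprod.lift_fst (pA I i g hk) (pJ I i g hk))).app W u)
  have hs : ∀ u, (biprod.snd : _ ⟶ ClSub.idealMod i.ker).app W (a.app W u) = (pJ I i g hk).app W u := fun u =>
    congr(($(biprod.lift_snd (pA I i g hk) (pJ I i g hk))).app W u)
  rw [key (a.app W t), key (a.app W t'), hf, hf, hs, hs, hA, hJ]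

/-- The function of a section. -/
def qf (V : P.Opens) : Γ(ext2 I i g hk, V) →ₗ[Γ(P, V)] Γ(P, V) where
  toFun t := ConormalWedge.fn i ((pJ I i g hk).app V t)
  map_add' t t' := by
    rw [map_add]
    exact map_add (OmegaSh.idealSect i.ker V) _ _
  map_smul' r t := by
    rw [Scheme.Modules.Hom.app_smul, ConormalWedge.fn_smul]
    rfl

theorem qf_res {V V' : P.Opens} (h : V' ≤ V) (t : Γ(ext2 I i g hk, V)) :
    qf I i g hk V' (res _ h t) = resR h (qf I i g hk V t) := by
  show ConormalWedge.fn i ((pJ I i g hk).app V' (res _ h t)) = _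
  rw [app_res, ConormalWedge.fn_res]
  rfl

theorem qf_inc (V : P.Opens) (a : Γ(ω, V)) : qf I i g hk V ((inc I i g hk).app V a) = 0 := by
  show ConormalWedge.fn i _ = 0
  rw [show (pJ I i g hk).app V ((inc I i g hk).app V a) = 0 from congr(($(inc_pJ I i g hk)).app V a)]
  exact map_zero (OmegaSh.idealSect i.ker V)

theorem qf_eq_zero {V : P.Opens} (t : Γ(ext2 I i g hk, V)) (h : qf I i g hk V t = 0) :
    ∃ a : Γ(ω, V), (inc I i g hk).app V a = t :=
  QCoh.exists_app_f_eq (shortExact I i g hk) V t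
    (ConormalWedge.fn_injective i (h.trans (map_zero (OmegaSh.idealSect i.ker V)).symm))

theorem inc_injective (V : P.Opens) : Function.Injective ((inc I i g hk).app V) :=
  haveI := (shortExact I i g hk).mono_f
  QCoh.app_injective (inc I i g hk) V

/-- The pairing into the kernel. -/
def pair (V : P.Opens) (e : Fin 2 → Γ(ext2 I i g hk, V)) : Γ(ω, V) :=
  (qf_eq_zero I i g hk (qf I i g hk V (e 1) • e 0 - qf I i g hk V (e 0) • e 1) (by
    rw [map_sub, map_smul, map_smul, smul_eq_mul, smul_eq_mul, mul_comm, sub_self])).choose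

theorem inc_pair (V : P.Opens) (e : Fin 2 → Γ(ext2 I i g hk, V)) :
    (inc I i g hk).app V (pair I i g hk V e) = qf I i g hk V (e 1) • e 0 - qf I i g hk V (e 0) • e 1 :=
  (qf_eq_zero I i g hk (qf I i g hk V (e 1) • e 0 - qf I i g hk V (e 0) • e 1) (by
    rw [map_sub, map_smul, map_smul, smul_eq_mul, smul_eq_mul, mul_comm, sub_self])).choose_spec

/-- As an alternating map. -/
def mu (V : P.Opens) : Γ(ext2 I i g hk, V) [⋀^Fin 2]→ₗ[Γ(P, V)] Γ(ω, V) where
  toFun := pair I i g hk V
  map_update_add' := fun e k x y => by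
    apply inc_injective I i g hk V
    rw [map_add, inc_pair, inc_pair, inc_pair]
    fin_cases k <;> simp [map_add, add_smul, smul_add] <;> abel
  map_update_smul' := fun e k c x => by
    apply inc_injective I i g hk V
    rw [Scheme.Modules.Hom.app_smul, inc_pair, inc_pair]
    fin_cases k <;> simp [map_smul, smul_sub, smul_smul, mul_comm]
  map_eq_zero_of_eq' := fun e j k he hjk => by
    apply inc_injective I i g hk V
    rw [map_zero, inc_pair]
    fin_cases j <;> fin_cases k <;> simp_all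

theorem mu_apply (V : P.Opens) (e : Fin 2 → Γ(ext2 I i g hk, V)) : mu I i g hk V e = pair I i g hk V e := rfl

theorem mu_res {V V' : P.Opens} (h : V' ≤ V) (e : Fin 2 → Γ(ext2 I i g hk, V)) :
    res ω h (mu I i g hk V e) = mu I i g hk V' fun l => res _ h (e l) := by
  apply inc_injective I i g hk V'
  rw [mu_apply, mu_apply, app_res, inc_pair, inc_pair, map_sub, res_smul, res_smul, qf_res, qf_res]

theorem isQCoh (hω : Coh.IsQCoh ω) : Coh.IsQCoh (ext2 I i g hk) :=
  QCoh.isQCoh_X₂ (shortExact I i g hk) hω (ConormalWedge.isQCoh_idealMod i)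

end Groth.Agent.H28.Serre2
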