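import Groth.Agent.H28.Serre2.Alg
import Groth.Agent.H28.Serre2.Ext
import Groth.Agent.StratX.Sheaf

/-!
The extension is a bundle of rank two with determinant the line bundle.
-/

set_option autoImplicit false
set_option linter.style.haveILetI false
set_option linter.unusedSectionVars false
set_option backward.isDefEq.respectTransparency false
set_option backward.isDefEq.respectTransparency.types false
set_option maxHeartbeats 1000000

universe u

open CategoryTheory CategoryTheory.Limits AlgebraicGeometry TopologicalSpace Opposite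
open Groth.Agent.AModX

noncomputable section

namespace Groth.Agent.H28.Serre2

variable {P : Scheme.{u}} {ω : P.Modules} (I : InjectiveResolution ω) {Y : Scheme.{u}} (i : Y ⟶ P)
  [IsClosedImmersion i] (g : Γ(I.cocomplex.X 1, ⊤))
  (hk : ∀ (W : P.Opens), IsAffineOpen W → ∀ a ∈ RingHom.ker (i.app W).hom,
      a • res (I.cocomplex.X 2) (le_top : W ≤ ⊤) ((I.cocomplex.d 1 2).app ⊤ g) = 0)

/-- A basis of the sections whose wedge spans the line bundle. -/
def Good (W : P.Opens) : Prop :=
  ∃ e : Fin 2 → Γ(ext2 I i g hk, W), Function.Bijective (fun b : Fin 2 → Γ(P, W) => b 0 • e 0 + b 1 • e 1) ∧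
    Function.Bijective fun r : Γ(P, W) => r • mu I i g hk W e

/-- Local data near the subscheme. -/
def Near (W : P.Opens) : Prop :=
  ∃ (f : Fin 2 → ConormalWedge.Id i W) (y : Fin 2 → Γ(I.cocomplex.X 0, W)) (e : Γ(ω, W)) (c : Γ(P, W)),
    ConormalWedge.IsGens i W f ∧ InvX.IsFrame e ∧ IsUnit c ∧
    (∀ l, (I.cocomplex.d 0 1).app W (y l) = ConormalWedge.fn i (f l) • res (I.cocomplex.X 1) (le_top : W ≤ ⊤) g) ∧
    ConormalWedge.fn i (f 0) • y 1 - ConormalWedge.fn i (f 1) • y 0 = (AffineResolution.aug I).app W (c • e)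

/-- Local data away from the subscheme. -/
def Away (W : P.Opens) : Prop :=
  ∃ (s : ConormalWedge.Id i W) (y : Γ(I.cocomplex.X 0, W)) (e : Γ(ω, W)),
    ConormalWedge.fn i s = 1 ∧ InvX.IsFrame e ∧
    (I.cocomplex.d 0 1).app W y = res (I.cocomplex.X 1) (le_top : W ≤ ⊤) g

theorem bijective_frame {M : P.Modules} {W : P.Opens} {e : Γ(M, W)} (he : InvX.IsFrame e) :
    Function.Bijective fun r : Γ(P, W) => r • e := by
  have h := he W le_rfl
  rw [res_self] at h
  exact h

theorem qf_iff {W : P.Opens} {e : Γ(ω, W)} (he : InvX.IsFrame e) (v : Γ(ext2 I i g hk, W)) :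
    qf I i g hk W v = 0 ↔ ∃ a : Γ(P, W), a • (inc I i g hk).app W e = v := by
  constructor
  · intro h
    obtain ⟨a, rfl⟩ := qf_eq_zero I i g hk v h
    obtain ⟨r, rfl⟩ := (bijective_frame he).2 a
    exact ⟨r, (Scheme.Modules.Hom.app_smul _ _ _).symm⟩
  · rintro ⟨a, rfl⟩
    rw [map_smul, qf_inc, smul_zero]

theorem free_inc {W : P.Opens} {e : Γ(ω, W)} (he : InvX.IsFrame e) (a : Γ(P, W))
    (h : a • (inc I i g hk).app W e = 0) : a = 0 := by
  rw [← Scheme.Modules.Hom.app_smul] at h
  exact (bijective_frame he).1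
    ((inc_injective I i g hk W (h.trans (map_zero _).symm)).trans (zero_smul Γ(P, W) e).symm)

theorem good_of_near {W : P.Opens} (h : Near I i g W) : Good I i g hk W := by
  obtain ⟨f, y, e, c, hf, he, hc, hy, hrel⟩ := h
  choose t htA htJ using fun l => exists_sect I i g hk (y l) (f l) (hy l)
  have hq : ∀ l, qf I i g hk W (t l) = ConormalWedge.fn i (f l) := fun l => congrArg (ConormalWedge.fn i) (htJ l)
  have hkey : ConormalWedge.fn i (f 0) • t 1 - ConormalWedge.fn i (f 1) • t 0 =
      c • (inc I i g hk).app W e := by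
    refine sect_ext I i g hk ?_ ?_
    · rw [map_sub, Scheme.Modules.Hom.app_smul, Scheme.Modules.Hom.app_smul, htA, htA, hrel,
        ← Scheme.Modules.Hom.app_smul]
      exact (congr(($(inc_pA I i g hk)).app W (c • e))).symm
    · apply ConormalWedge.fn_injective i
      rw [map_sub, Scheme.Modules.Hom.app_smul, Scheme.Modules.Hom.app_smul, htJ, htJ,
        Scheme.Modules.Hom.app_smul,
        show (pJ I i g hk).app W ((inc I i g hk).app W e) = 0 from congr(($(inc_pJ I i g hk)).app W e), smul_zero]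
      show OmegaSh.idealSect i.ker W _ = OmegaSh.idealSect i.ker W 0
      rw [map_sub, map_zero]
      show ConormalWedge.fn i (_ • f 1) - ConormalWedge.fn i (_ • f 0) = 0
      rw [ConormalWedge.fn_smul, ConormalWedge.fn_smul, mul_comm, sub_self]
  refine ⟨t, bijective_pair (qf I i g hk W) _ (qf_iff I i g hk he) (free_inc I i g hk he)
    (fun l => ConormalWedge.fn i (f l)) hf.regular t hq (fun v => ?_) c hc hkey, ?_⟩
  · rw [hf.span_eq]
    exact ConormalWedge.fn_mem i _
  · have hmu : mu I i g hk W t = (-c) • e := by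
      apply inc_injective I i g hk W
      rw [mu_apply, inc_pair, hq, hq, Scheme.Modules.Hom.app_smul, neg_smul, ← hkey, neg_sub]
    rw [hmu, show (fun r : Γ(P, W) => r • (-c) • e) = (fun r => r • e) ∘ fun r => r * -c from
      funext fun r => smul_smul r (-c) e]
    exact (bijective_frame he).comp hc.neg.unit.mulRight_bijective

theorem good_of_away {W : P.Opens} (h : Away I i g W) : Good I i g hk W := by
  obtain ⟨s, y, e, hs, he, hy⟩ := h
  obtain ⟨t, -, htJ⟩ := exists_sect I i g hk y s (by rw [hs, one_smul]; exact hy)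
  have hq : qf I i g hk W t = 1 := (congrArg (ConormalWedge.fn i) htJ).trans hs
  refine ⟨![(inc I i g hk).app W e, t],
    bijective_unit (qf I i g hk W) _ (qf_iff I i g hk he) (free_inc I i g hk he) t hq, ?_⟩
  have hmu : mu I i g hk W ![(inc I i g hk).app W e, t] = e := by
    apply inc_injective I i g hk W
    rw [mu_apply, inc_pair]
    show qf I i g hk W t • (inc I i g hk).app W e - qf I i g hk W ((inc I i g hk).app W e) • t = _
    rw [hq, qf_inc, one_smul, zero_smul, sub_zero]
  rw [hmu]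
  exact bijective_frame he

theorem near_basicOpen {W : P.Opens} (hW : IsAffineOpen W) (a : Γ(P, W)) (h : Near I i g W) :
    Near I i g (P.basicOpen a) := by
  obtain ⟨f, y, e, c, hf, he, hc, hy, hrel⟩ := h
  have hle : P.basicOpen a ≤ W := P.basicOpen_le a
  refine ⟨_, fun l => res _ hle (y l), res ω hle e, resR hle c, hf.basicOpen i hW a, he.res hle,
    hc.map (resR hle), fun l => ?_, ?_⟩
  · rw [app_res, hy, res_smul, res_res, ConormalWedge.fn_res]
  · rw [ConormalWedge.fn_res, ConormalWedge.fn_res, ← res_smul, ← res_smul, ← res_smul, ← map_sub, hrel, app_res]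

theorem away_res {W V : P.Opens} (hle : V ≤ W) (h : Away I i g W) : Away I i g V := by
  obtain ⟨s, y, e, hs, he, hy⟩ := h
  refine ⟨res _ hle s, res _ hle y, res ω hle e, ?_, he.res hle, ?_⟩
  · rw [ConormalWedge.fn_res, hs, map_one]
  · rw [app_res, hy, res_res]

variable (hω : PicF.IsInvertible ω) (hi : RegImm.IsRegularImmersionOfCodim RegImm.Kind.regular 2 i)
  (hu : ∀ (W : P.Opens), IsAffineOpen W → ∀ (f : Fin 2 → ConormalWedge.Id i W), ConormalWedge.IsGens i W f →
      ∀ (e : Γ(ω, W)) (c : Γ(P, W)),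
        KoszulZigzag.Rel (fun j => Γ(I.cocomplex.X j, W)) (AffineResolution.linApp (AffineResolution.aug I) W)
          (fun j => AffineResolution.linApp (I.cocomplex.d j (j + 1)) W) (fun l => ConormalWedge.fn i (f l))
          (res (I.cocomplex.X 2) (le_top : W ≤ ⊤) ((I.cocomplex.d 1 2).app ⊤ g)) (c • e) →
        IsUnit (i.app W c))

include hk in
theorem closed_smul {W : P.Opens} (hW : IsAffineOpen W) (s : ConormalWedge.Id i W) :
    (I.cocomplex.d 1 2).app W (ConormalWedge.fn i s • res (I.cocomplex.X 1) (le_top : W ≤ ⊤) g) = 0 := by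
  rw [Scheme.Modules.Hom.app_smul, app_res]
  exact hk W hW _ (ConormalWedge.fn_mem i s)

include hω hk hi hu in
theorem exists_local (p : P) : ∃ W : P.Opens, IsAffineOpen W ∧ p ∈ W ∧
    ∀ a : Γ(P, W), Good I i g hk (P.basicOpen a) := by
  have hωq := RegExtFormula.isQCoh_inv hω
  obtain ⟨U, hpU, e₀, he₀⟩ := InvX.exists_frame hω p
  by_cases hp : p ∈ Set.range i
  · obtain ⟨z, rfl⟩ := hp
    obtain ⟨W₀, hW₀, f₀, hzW, hf₀⟩ := ConormalWedge.exists_gens i hi z
    obtain ⟨b, hb, hzb⟩ := hW₀.exists_basicOpen_le ⟨i z, hpU⟩ hzW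
    let W := P.basicOpen b
    have hW : IsAffineOpen W := hW₀.basicOpen b
    have hf := hf₀.basicOpen i hW₀ b
    let f : Fin 2 → ConormalWedge.Id i W := fun l => res (ClSub.idealMod i.ker) (P.basicOpen_le b) (f₀ l)
    let e : Γ(ω, W) := res ω hb e₀
    have he : InvX.IsFrame e := he₀.res hb
    choose y hy using fun l => AffineResolution.exact_affine I hωq hW 0 _ (closed_smul I i g hk hW (f l))
    have hcl : (I.cocomplex.d 0 1).app W (ConormalWedge.fn i (f 0) • y 1 - ConormalWedge.fn i (f 1) • y 0) = 0 := by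
      rw [map_sub, Scheme.Modules.Hom.app_smul, Scheme.Modules.Hom.app_smul, hy, hy, smul_smul, smul_smul, mul_comm,
        sub_self]
    obtain ⟨m, hm⟩ := (AffineResolution.ker_sections_zero I W _).1 hcl
    obtain ⟨c, rfl⟩ := (bijective_frame he).2 m
    have hc : IsUnit (i.app W c) := hu W hW f hf e c (rel_two (fun l => ConormalWedge.fn i (f l)) _
      (res (I.cocomplex.X 1) (le_top : W ≤ ⊤) g) (app_res (I.cocomplex.d 1 2) (le_top : W ≤ ⊤) g) y hy _ hm.symm)
    let V := P.basicOpen c
    have hzV : i z ∈ V := by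
      show z ∈ i ⁻¹ᵁ P.basicOpen c
      rw [i.preimage_basicOpen, Scheme.basicOpen_of_isUnit _ hc]
      exact hzb
    refine ⟨V, hW.basicOpen c, hzV, fun a => good_of_near I i g hk (near_basicOpen I i g (hW.basicOpen c) a ?_)⟩
    have hle : V ≤ W := P.basicOpen_le c
    refine ⟨_, fun l => res _ hle (y l), res ω hle e, resR hle c, hf.basicOpen i hW c, he.res hle, ?_,
      fun l => ?_, ?_⟩
    · exact P.toRingedSpace.isUnit_res_basicOpen c
    · rw [app_res, hy, res_smul, res_res]
      exact congrArg (· • _) (ConormalWedge.fn_res i hle (f l)).symm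
    · rw [show ConormalWedge.fn i (res (ClSub.idealMod i.ker) hle (f 0)) = _ from ConormalWedge.fn_res i hle (f 0),
        show ConormalWedge.fn i (res (ClSub.idealMod i.ker) hle (f 1)) = _ from ConormalWedge.fn_res i hle (f 1),
        ← res_smul, ← res_smul, ← res_smul, ← map_sub, ← hm, app_res]
  · let O : P.Opens := U ⊓ ⟨(Set.range i)ᶜ, i.isClosedEmbedding.isClosed_range.isOpen_compl⟩
    obtain ⟨_, ⟨W, hW, rfl⟩, hpW, hWO⟩ := P.isBasis_affineOpens.exists_subset_of_mem_open
      (show p ∈ O from ⟨hpU, hp⟩) O.2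
    have hWU : W ≤ U := fun q hq => (hWO hq).1
    have hbot : i ⁻¹ᵁ W = ⊥ := bot_unique fun x hx => ((hWO hx).2 ⟨x, rfl⟩).elim
    have h1 : (1 : Γ(P, W)) ∈ RingHom.ker (i.app W).hom := by
      haveI : Subsingleton Γ(Y, i ⁻¹ᵁ W) := by rw [hbot]; infer_instance
      exact Subsingleton.elim _ _
    obtain ⟨s, hs⟩ := ConormalWedge.exists_fn i 1 h1
    have hcl := closed_smul I i g hk hW s
    obtain ⟨y, hy⟩ := AffineResolution.exact_affine I hωq hW 0 _ hcl
    rw [hs, one_smul] at hy
    exact ⟨W, hW, hpW, fun a => good_of_away I i g hk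
      (away_res I i g (P.basicOpen_le a) ⟨s, y, res ω hWU e₀, hs, he₀.res hWU, hy⟩)⟩

theorem isProjRank_of_good {W : P.Opens} (h : Good I i g hk W) :
    StratX.IsProjRank Γ(P, W) 2 Γ(ext2 I i g hk, W) := by
  obtain ⟨e, he, -⟩ := h
  let l : (Fin 2 → Γ(P, W)) ≃ₗ[Γ(P, W)] Γ(ext2 I i g hk, W) :=
    LinearEquiv.ofBijective (Fintype.linearCombination Γ(P, W) e) (by
      refine (congrArg Function.Bijective (funext fun b => ?_)).mp he
      rw [Fintype.linearCombination_apply, Fin.sum_univ_two])
  refine StratX.IsProjRank.of_equiv l ⟨inferInstance, inferInstance, fun x => ?_⟩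
  haveI : Nontrivial Γ(P, W) := x.nontrivial
  simp [Module.rankAtStalk_eq_finrank_of_free]

include hω hk hi hu in
theorem rank_two : FlatMod.IsFinLocFreeOfRank 2 (ext2 I i g hk) := by
  choose W hW hp hgood using exists_local I i g hk hω hi hu
  refine ConsPropLib.isFinLocFreeOfRank_of_cover (fun p => (hW p).fromSpec)
    (fun p => ⟨p, by rw [IsAffineOpen.range_fromSpec]; exact hp p⟩) fun p => ?_
  let N := (ext2 I i g hk).restrict (hW p).fromSpec
  haveI : IsIso N.fromTildeΓ := (isQuasicoherent_iff_isIso_fromTildeΓ N).1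
    (QCoh.isQCoh_restrict (hW p).fromSpec (isQCoh I i g hk (RegExtFormula.isQCoh_inv hω)))
  refine (ConsPropLib.isFinLocFreeOfRank_iso (asIso N.fromTildeΓ)).1
    ((ConsPropLib.isFinLocFreeOfRank_tilde_iff _ 2).2 ?_)
  have h := hgood p 1
  rw [Scheme.basicOpen_of_isUnit _ isUnit_one] at h
  exact StratX.IsProjRank.of_equiv (QCoh.chartEquiv (hW p) (ext2 I i g hk)) (isProjRank_of_good I i g hk h)

include hω hk hi hu in
theorem isExtPow_two : ExtPow.IsExtPow 2 (ext2 I i g hk) ω := by
  refine AltGlue.isExtPow_of (mu I i g hk) (fun V V' h e => mu_res I i g hk h e) fun V hV => ?_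
  refine AltGlue.lift_bijective (mu I i g hk) (fun V V' h e => mu_res I i g hk h e)
    (isQCoh I i g hk (RegExtFormula.isQCoh_inv hω)) (RegExtFormula.isQCoh_inv hω) hV
    {a : Γ(P, V) | Good I i g hk (P.basicOpen a)} (hV.self_le_iSup_basicOpen_iff.1 fun p hp => ?_) ?_
  · obtain ⟨W, hW, hpW, hgood⟩ := exists_local I i g hk hω hi hu p
    obtain ⟨a, b, hab, hpa⟩ := exists_basicOpen_le_affine_inter hV hW p ⟨hp, hpW⟩
    exact Opens.mem_iSup.2 ⟨⟨a, show Good I i g hk (P.basicOpen a) from hab ▸ hgood b⟩, hpa⟩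
  · rintro ⟨a, e, he, hmu⟩
    let l : (Fin 2 → Γ(P, P.basicOpen a)) ≃ₗ[Γ(P, P.basicOpen a)] Γ(ext2 I i g hk, P.basicOpen a) :=
      LinearEquiv.ofBijective (Fintype.linearCombination Γ(P, P.basicOpen a) e) (by
        refine (congrArg Function.Bijective (funext fun b => ?_)).mp he
        rw [Fintype.linearCombination_apply, Fin.sum_univ_two])
    refine AltGlue.lift_bijective_of_basis (mu I i g hk) _ (Module.Basis.ofEquivFun l.symm) ?_
    have hb : (fun k => (Module.Basis.ofEquivFun l.symm) k) = e := funext fun k => by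
      rw [Module.Basis.coe_ofEquivFun, LinearEquiv.symm_symm]
      simp [l, Fintype.linearCombination_apply_single]
    exact (congrArg (fun v => Function.Bijective fun r : Γ(P, P.basicOpen a) => r • mu I i g hk _ v) hb).mpr hmu

end Groth.Agent.H28.Serre2
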