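import Groth.Agent.Lib.RegExtFormula
import Groth.Agent.ExtCodim.Main
import Groth.Agent.H28.KvbModel

/-!
The class of the fundamental section in the second local Ext sheaf, as the differential of a global section.
-/

set_option autoImplicit false
set_option linter.style.haveILetI false
set_option linter.unusedSectionVars false
set_option backward.isDefEq.respectTransparency false
set_option backward.isDefEq.respectTransparency.types false
set_option maxHeartbeats 1000000

universe u

open CategoryTheory CategoryTheory.Limits AlgebraicGeometry TopologicalSpace Opposite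
open Groth.Agent.AModX

noncomputable section

namespace Groth.Agent.H28.Serre2

open Groth.Agent.SheafHomX Groth.Agent.KFlatLib

variable {P : Scheme.{u}} {ω : P.Modules} (I : InjectiveResolution ω)

theorem acyclic_X (q : ℕ) : ExtGlobal.Acyclic (I.cocomplex.X q) := fun p => by
  haveI : ModSite.HasSheafHom (O := P.sheaf) (Coh.structureModule P) := SheafHomX.isLeftAdjoint_ten _
  haveI := I.injective q
  exact QCoh.subsingleton_HH_of_iso ((SheafHomX.unitIso P).app (I.cocomplex.X q)) (p + 1)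
    (ExtGlobal.acyclic_hom_injective (Coh.structureModule P) (I.cocomplex.X q) p)

theorem isZero_homology_succ (q : ℕ) : IsZero (I.cocomplex.homology (q + 1)) :=
  (HomologicalComplex.exactAt_iff_isZero_homology _ _).1 (I.cocomplex_exactAt_succ q)

/-- The cycles in degree zero. -/
def cyclesZero : ω ≅ I.cocomplex.cycles 0 :=
  let hk := I.exact₀.fIsKernel
  haveI : Mono (I.ι.f 0) := inferInstance
  IsLimit.conePointUniqueUpToIso hk (I.cocomplex.cyclesIsKernel 0 1 (by simp))

theorem epi_toCycles (q : ℕ) : Epi (I.cocomplex.toCycles q (q + 1)) := by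
  have h0 : 𝟙 _ ≫ I.cocomplex.homologyπ (q + 1) = 0 := (isZero_homology_succ I q).eq_of_tgt _ _
  haveI : IsSplitEpi (kernel.ι (I.cocomplex.homologyπ (q + 1))) :=
    ⟨⟨⟨kernel.lift _ (𝟙 _) h0, kernel.lift_ι _ _ _⟩⟩⟩
  obtain ⟨w, hw⟩ := ExtGlobal.shortExact_bd I.cocomplex q
  haveI := hw.epi_g
  rw [← ExtGlobal.toBd_ι]
  exact epi_comp _ _

theorem subsingleton_cycles_one (h2 : Subsingleton (Coh.HH P ω 2)) :
    Subsingleton (Coh.HH P (I.cocomplex.cycles 1) 1) := by
  obtain ⟨w, hw⟩ := ExtGlobal.shortExact_bd I.cocomplex 0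
  have hb : Subsingleton (Coh.HH P (ExtGlobal.bd I.cocomplex 1) 1) :=
    ExtGlobal.subsingleton_H_X₃ (Y := P.toPresheafedSpace.carrier)
      (T := (ShortComplex.mk (I.cocomplex.iCycles 0) (ExtGlobal.toBd I.cocomplex 0 1) w).map (QCoh.toAbFunctor P))
      (QCoh.toAb_shortExact hw) 1 (acyclic_X I 0 0)
      (QCoh.subsingleton_HH_of_iso (cyclesZero I) 2 h2)
  exact QCoh.subsingleton_HH_X₂ (ExtGlobal.shortExact_cycles I.cocomplex 1) 1 hb
    (ExtGlobal.acyclic_of_isZero (isZero_homology_succ I 0) 0)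

theorem exists_primitive (h2 : Subsingleton (Coh.HH P ω 2)) (x : Γ(I.cocomplex.X 2, ⊤))
    (hx : (I.cocomplex.d 2 3).app ⊤ x = 0) :
    ∃ g : Γ(I.cocomplex.X 1, ⊤), (I.cocomplex.d 1 2).app ⊤ g = x := by
  let a : Coh.structureModule P ⟶ I.cocomplex.X 2 := InvX.ofSect x
  have ha : a ≫ I.cocomplex.d 2 3 = 0 := AmpleX.eq_zero_of_one_eq_zero _ (by
    show (I.cocomplex.d 2 3).app ⊤ (InvX.one a) = 0
    rw [InvX.one_ofSect]
    exact hx)
  let a' := I.cocomplex.liftCycles a 3 (by simp) ha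
  have ha' : a' ≫ I.cocomplex.homologyπ 2 = 0 := (isZero_homology_succ I 1).eq_of_tgt _ _
  obtain ⟨w, hw⟩ := ExtGlobal.shortExact_bd I.cocomplex 1
  haveI := hw.epi_g
  haveI : Subsingleton (Coh.HH P (kernel (ExtGlobal.toBd I.cocomplex 1 2)) 1) :=
    QCoh.subsingleton_HH_of_iso (IsLimit.conePointUniqueUpToIso hw.fIsKernel (kernelIsKernel _)) 1
      (subsingleton_cycles_one I h2)
  obtain ⟨b, hb⟩ := PnNegVan.surjective_sections_of_epi (ExtGlobal.toBd I.cocomplex 1 2) inferInstance
    (kernel.lift _ a' ha')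
  have hb' : b ≫ I.cocomplex.d 1 2 = a := by
    have h1 : (b ≫ ExtGlobal.toBd I.cocomplex 1 2) ≫ kernel.ι _ ≫ I.cocomplex.iCycles 2 = a := by
      rw [show b ≫ ExtGlobal.toBd I.cocomplex 1 2 = kernel.lift _ a' ha' from hb, kernel.lift_ι_assoc]
      exact HomologicalComplex.liftCycles_i _ _ _ _ _
    rwa [Category.assoc, ← Category.assoc (ExtGlobal.toBd _ _ _), ExtGlobal.toBd_ι,
      HomologicalComplex.toCycles_i] at h1
  exact ⟨InvX.one b, (congrArg InvX.one hb').trans (InvX.one_ofSect x)⟩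

theorem nonempty_hom_self {X : Scheme.{u}} {L : X.Modules} (hL : PicF.IsInvertible L) :
    Nonempty ((hom L).obj L ≅ Coh.structureModule X) := by
  obtain ⟨D, hD, ⟨e⟩⟩ := H23.PicInv.exists_inverse hL
  obtain ⟨c⟩ := H23.PicMul.comm D L
  haveI : (ten L).IsEquivalence :=
    DivisorExt.isEquivalence_ten (show ClSub.IsInverseOf D L from ⟨c ≪≫ e⟩)
  haveI := (RegExtFormula.isQCoh_and_iso L L hL (RegExtFormula.isQCoh_inv hL)).2
  exact ⟨(ten L).preimageIso (asIso ((adj L).counit.app L) ≪≫ (tenUnitIso L).symm)⟩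

variable {Y : Scheme.{u}} (i : Y ⟶ P) [IsClosedImmersion i] {L : Y.Modules}

theorem span_killed {M : P.Modules} {W : P.Opens} {f : Fin 2 → ConormalWedge.Id i W}
    (hf : ConormalWedge.IsGens i W f) (x : Γ(M, W)) (hk : ∀ l, ConormalWedge.fn i (f l) • x = 0)
    (a : Γ(P, W)) (ha : a ∈ RingHom.ker (i.app W).hom) : a • x = 0 := by
  rw [← hf.span_eq] at ha
  induction ha using Submodule.span_induction with
  | mem b hb => obtain ⟨l, rfl⟩ := hb; exact hk l
  | zero => exact zero_smul _ _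
  | add a b _ _ ha hb => rw [add_smul, ha, hb, add_zero]
  | smul a b _ hb => rw [smul_eq_mul, mul_smul, hb, smul_zero]

/-- Residues at a frame of a class going to one are units on the subscheme. -/
theorem isUnit_residue (hωq : Coh.IsQCoh ω)
    (Θ : (RegExtFormula.cplx i I).cycles 2 ⟶ (Scheme.Modules.pushforward i).obj (Coh.structureModule Y))
    (hΘ : (RegExtFormula.cplx i I).toCycles 1 2 ≫ Θ = 0)
    {W : P.Opens} (hW : IsAffineOpen W) {f : Fin 2 → ConormalWedge.Id i W} (hf : ConormalWedge.IsGens i W f)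
    (z : Γ((RegExtFormula.cplx i I).cycles 2, W))
    (hz : (show Γ(Y, i ⁻¹ᵁ W) from Θ.app W z) = 1) (e : Γ(ω, W)) (c : Γ(P, W))
    (hrel : KoszulZigzag.Rel (fun j => Γ(I.cocomplex.X j, W)) (AffineResolution.linApp (AffineResolution.aug I) W)
      (fun j => AffineResolution.linApp (I.cocomplex.d j (j + 1)) W) (fun l => ConormalWedge.fn i (f l))
      (RegExtFormula.cyc i I W z) (c • e)) :
    IsUnit (i.app W c) := by
  have hres := AffineResolution.isRes I hωq hW
  have hdiv := fun j => AffineResolution.divisible I j hW _ hf.regular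
  obtain ⟨xe, hxe, hxek, hre⟩ := KoszulZigzag.Rel.exists_preimage hres hdiv e
  obtain ⟨ze, rfl⟩ := RegExtFormula.exists_cyc i I hW xe hxe (span_killed i hf xe hxek)
  have h0 := hrel.add (hre.smul (-c))
  rw [← add_smul, add_neg_cancel, zero_smul, ← RegExtFormula.cyc_smul, ← RegExtFormula.cyc_add] at h0
  have hzero : Θ.app W (z + -c • ze) = 0 := by
    rcases KoszulZigzag.Rel.exists_coboundary hres hdiv (RegExtFormula.cyc_closed i I W _)
      (fun l => RegExtFormula.cyc_killed i I hW _ _ (ConormalWedge.fn_mem i (f l))) (zero_mem _) h0 with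
      h | ⟨q, hq, w, hwk, hw⟩
    · rw [RegExtFormula.cyc_injective i I W (h.trans (map_zero
        (AddMonoidHom.mk' (RegExtFormula.cyc (r := 2) i I W) (RegExtFormula.cyc_add i I W))).symm), map_zero]
    · obtain rfl : q = 1 := by omega
      obtain ⟨w', rfl⟩ := (HomPushSections.eps_range i (I.cocomplex.X 1) hW w).2 (span_killed i hf w hwk)
      have hzw : z + -c • ze = ((RegExtFormula.cplx i I).toCycles 1 2).app W w' := by
        apply RegExtFormula.cyc_injective i I W
        refine hw.symm.trans ?_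
        show (I.cocomplex.d 1 2).app W _ = (HomPushSections.eps i _).app W
          (((RegExtFormula.cplx i I).iCycles 2).app W (((RegExtFormula.cplx i I).toCycles 1 2).app W w'))
        rw [RegExtFormula.eps_d]
        exact (congrArg ((HomPushSections.eps i _).app W)
          congr(($((RegExtFormula.cplx i I).toCycles_i 1 2)).app W w')).symm
      rw [hzw]
      exact congr(($hΘ).app W w')
  rw [map_add, Scheme.Modules.Hom.app_smul, neg_smul, ← sub_eq_add_neg, sub_eq_zero,
    QCoh.pushforward_smul i W c] at hzero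
  refine IsUnit.of_mul_eq_one (show Γ(Y, i ⁻¹ᵁ W) from Θ.app W ze) ?_
  exact hzero.symm.trans hz

variable (hL : ExtPow.IsExtPow 2 (Omega.conormal i) L) (hωi : PicF.IsInvertible ω)
  (hi : RegImm.IsRegularImmersionOfCodim RegImm.Kind.regular 2 i)
  (eL : L ≅ (Scheme.Modules.pullback i).obj ω) (h2 : Subsingleton (Coh.HH P ω 2))

include hL hωi hi eL h2 in
/-- A global section whose differential generates the local Ext sheaf. -/
theorem exists_class : ∃ g : Γ(I.cocomplex.X 1, ⊤),
    (∀ (W : P.Opens), IsAffineOpen W → ∀ a ∈ RingHom.ker (i.app W).hom,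
      a • res (I.cocomplex.X 2) (le_top : W ≤ ⊤) ((I.cocomplex.d 1 2).app ⊤ g) = 0) ∧
    ∀ (W : P.Opens), IsAffineOpen W → ∀ (f : Fin 2 → ConormalWedge.Id i W), ConormalWedge.IsGens i W f →
      ∀ (e : Γ(ω, W)) (c : Γ(P, W)),
        KoszulZigzag.Rel (fun j => Γ(I.cocomplex.X j, W)) (AffineResolution.linApp (AffineResolution.aug I) W)
          (fun j => AffineResolution.linApp (I.cocomplex.d j (j + 1)) W) (fun l => ConormalWedge.fn i (f l))
          (res (I.cocomplex.X 2) (le_top : W ≤ ⊤) ((I.cocomplex.d 1 2).app ⊤ g)) (c • e) →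
        IsUnit (i.app W c) := by
  obtain ⟨φ, hφ⟩ := hL
  have hωq := RegExtFormula.isQCoh_inv hωi
  obtain ⟨e₁⟩ := RegExtFormula.nonempty_iso i I φ hωq hi hφ
  have hLi : PicF.IsInvertible L := RegExtFormula.isInvertible_L i φ hi hφ
  obtain ⟨e₂⟩ := nonempty_hom_self hLi
  let C := RegExtFormula.cplx i I
  let E : C.homology 2 ≅ (Scheme.Modules.pushforward i).obj (Coh.structureModule Y) :=
    e₁ ≪≫ (Scheme.Modules.pushforward i).mapIso ((hom L).mapIso eL.symm ≪≫ e₂)
  haveI : ModSite.HasSheafHom (O := P.sheaf) (HomPushSections.pushO i) := SheafHomX.isLeftAdjoint_ten _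
  have hC : ∀ q, ExtGlobal.Acyclic (C.X q) := fun q =>
    haveI := I.injective q
    ExtGlobal.acyclic_hom_injective (HomPushSections.pushO i) (I.cocomplex.X q)
  have hz : ∀ q, q < 2 → IsZero (C.homology q) := fun q hq =>
    ExtCodim.isZero_G i I hi (H28.KvbModel.lf_of_rank (InvEnd.isFinLocFreeOfRank_one hωi)) q hq
  obtain ⟨w, hw⟩ := ExtGlobal.shortExact_bd C 1
  have hb : ExtGlobal.Acyclic (ExtGlobal.bd C 2) := ExtGlobal.Acyclic.X₃ hw
    (ExtGlobal.acyclic_parts C hC 1 fun q hq => ExtGlobal.acyclic_of_isZero (hz q (by omega))).2 (hC 1)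
  obtain ⟨a, ha⟩ := PnNegVan.surjective_sections_of_epi (C.homologyπ 2) (hb 0) (ClSub.unitToPush i ≫ E.inv)
  let Θ := C.homologyπ 2 ≫ E.hom
  have hΘ : C.toCycles 1 2 ≫ Θ = 0 := by
    rw [← Category.assoc, C.toCycles_comp_homologyπ, zero_comp]
  have haΘ : a ≫ Θ = ClSub.unitToPush i := by
    rw [← Category.assoc, show a ≫ C.homologyπ 2 = _ from ha, Category.assoc, E.inv_hom_id, Category.comp_id]
  obtain ⟨g, hg⟩ := exists_primitive I h2 (RegExtFormula.cyc i I ⊤ (InvX.one a)) (RegExtFormula.cyc_closed i I ⊤ _)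
  refine ⟨g, fun W hW b hb' => ?_, fun W hW f hf e c hrel => ?_⟩
  · rw [hg, ← RegExtFormula.cyc_res]
    exact RegExtFormula.cyc_killed i I hW _ b hb'
  · rw [hg, ← RegExtFormula.cyc_res] at hrel
    refine isUnit_residue I i hωq Θ hΘ hW hf _ ?_ e c hrel
    refine (app_res Θ (le_top : W ≤ ⊤) (InvX.one a)).trans ?_
    rw [show Θ.app ⊤ (InvX.one a) = i.app ⊤ 1 from congr(($haΘ).app ⊤ (1 : Γ(P, ⊤))), map_one]
    exact map_one (Y.presheaf.map _).hom

end Groth.Agent.H28.Serre2
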